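import Groth.Agent.AlgSp.K621.ContrDefs
import Groth.Agent.FlatA.LocalCriterion
import Mathlib.RingTheory.Nakayama
import Mathlib.RingTheory.Ideal.Quotient.Operations

/-!
# S14992, node D1: a local homomorphism which is an isomorphism modulo powers of a principal prime is flat
-/

set_option autoImplicit false

universe u
open IsLocalRing TensorProduct

namespace K917.ContrFlat

section

variable {R B : Type u} [CommRing R] [CommRing B] [Algebra R B]

/-- If `R/g → B/gB` is bijective and `g` is `B`-regular, then `B` is flat over `R`. -/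
theorem flat_of_bij [IsLocalRing R] [IsLocalRing B]
    [IsNoetherianRing R] [IsNoetherianRing B] [IsLocalHom (algebraMap R B)]
    (g : R) (hg : g ∈ maximalIdeal R)
    (hsurj : ∀ b : B, ∃ r : R, ∃ b' : B, b = algebraMap R B r + algebraMap R B g * b')
    (hinj : ∀ r : R, (∃ b : B, algebraMap R B r = algebraMap R B g * b) → r ∈ Ideal.span {g})
    (hreg : ∀ b : B, algebraMap R B g * b = 0 → b = 0) : Module.Flat R B := by
  have hloc : (maximalIdeal R).map (algebraMap R B) ≤ maximalIdeal B :=
    ((IsLocalRing.local_hom_TFAE (algebraMap R B)).out 0 2).1 ‹_›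
  have hgm : Ideal.span {g} ≤ maximalIdeal R := (Ideal.span_singleton_le_iff_mem _).2 hg
  refine Groth.Agent.FlatA.LocalCriterion.flat_of_injective_of_flat_quotient (B := B) (Ideal.span {g})
    (((Ideal.map_mono hgm).trans hloc).trans (IsLocalRing.maximalIdeal_le_jacobson _)) ?_ ?_
  · rw [injective_iff_map_eq_zero]
    intro x hx
    have key : ∀ x : (Ideal.span {g} : Ideal R) ⊗[R] B, ∃ b : B,
        x = (⟨g, Ideal.mem_span_singleton_self g⟩ : (Ideal.span {g} : Ideal R)) ⊗ₜ[R] b := by
      intro x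
      induction x using TensorProduct.induction_on with
      | zero => exact ⟨0, by simp⟩
      | tmul a b =>
        obtain ⟨a, ha⟩ := a
        obtain ⟨c, rfl⟩ := Ideal.mem_span_singleton'.1 ha
        refine ⟨c • b, ?_⟩
        rw [TensorProduct.tmul_smul]
        rfl
      | add x y hx hy =>
        obtain ⟨b, rfl⟩ := hx
        obtain ⟨b', rfl⟩ := hy
        exact ⟨b + b', by rw [TensorProduct.tmul_add]⟩
    obtain ⟨b, rfl⟩ := key x
    have h1 : g ⊗ₜ[R] b = (0 : R ⊗[R] B) := by simpa using hx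
    have h2 : g • b = 0 := by
      have := congrArg (TensorProduct.lid R B) h1
      simpa using this
    rw [Algebra.smul_def] at h2
    rw [hreg b h2, TensorProduct.tmul_zero]
  · let f : (R ⧸ Ideal.span {g}) →ₗ[R ⧸ Ideal.span {g}] (R ⧸ Ideal.span {g}) ⊗[R] B :=
      LinearMap.toSpanSingleton _ _ (1 ⊗ₜ[R] (1 : B))
    have hf : ∀ r : R, f (Ideal.Quotient.mk _ r) = (1 : R ⧸ Ideal.span {g}) ⊗ₜ[R] algebraMap R B r := by
      intro r
      have h0 : f (Ideal.Quotient.mk _ r) =
          (Ideal.Quotient.mk (Ideal.span {g}) r) • ((1 : R ⧸ Ideal.span {g}) ⊗ₜ[R] (1 : B)) := rfl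
      rw [h0]
      rw [TensorProduct.smul_tmul', smul_eq_mul, mul_one, Algebra.algebraMap_eq_smul_one,
        TensorProduct.tmul_smul, TensorProduct.smul_tmul', ← Algebra.algebraMap_eq_smul_one]
      rfl
    have hfs : Function.Surjective f := by
      intro x
      induction x using TensorProduct.induction_on with
      | zero => exact ⟨0, by simp⟩
      | tmul a b =>
        obtain ⟨a, rfl⟩ := Ideal.Quotient.mk_surjective a
        obtain ⟨r, b', rfl⟩ := hsurj b
        refine ⟨Ideal.Quotient.mk _ (a * r), ?_⟩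
        rw [hf, TensorProduct.tmul_add, map_mul, ← Algebra.smul_def, ← Algebra.smul_def,
          TensorProduct.tmul_smul, TensorProduct.tmul_smul, TensorProduct.smul_tmul',
          TensorProduct.smul_tmul', ← Algebra.algebraMap_eq_smul_one]
        have h0 : g • (Ideal.Quotient.mk (Ideal.span {g}) a) = 0 := by
          rw [Algebra.smul_def]
          change Ideal.Quotient.mk (Ideal.span {g}) g * _ = 0
          rw [Ideal.Quotient.eq_zero_iff_mem.2 (Ideal.mem_span_singleton_self g), zero_mul]
        rw [h0, TensorProduct.zero_tmul, add_zero]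
        rfl
      | add x y hx hy =>
        obtain ⟨a, rfl⟩ := hx
        obtain ⟨b, rfl⟩ := hy
        exact ⟨a + b, map_add _ _ _⟩
    have hfi : Function.Injective f := by
      rw [injective_iff_map_eq_zero]
      intro a ha
      obtain ⟨r, rfl⟩ := Ideal.Quotient.mk_surjective a
      rw [hf] at ha
      let I : Ideal B := Ideal.span {algebraMap R B g}
      have hI : ∀ a : R, a ∈ Ideal.span {g} → Ideal.Quotient.mk I (algebraMap R B a) = 0 := by
        intro a ha
        obtain ⟨c, rfl⟩ := Ideal.mem_span_singleton'.1 ha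
        rw [Ideal.Quotient.eq_zero_iff_mem, map_mul]
        exact Ideal.mul_mem_left _ _ (Ideal.mem_span_singleton_self _)
      let q : (R ⧸ Ideal.span {g}) →ₐ[R] (B ⧸ I) :=
        Ideal.Quotient.liftₐ _ (Algebra.ofId R (B ⧸ I)) hI
      let t : (R ⧸ Ideal.span {g}) ⊗[R] B →ₐ[R] (B ⧸ I) :=
        Algebra.TensorProduct.lift q (Ideal.Quotient.mkₐ R I) (fun _ _ => Commute.all _ _)
      have h1 := congrArg t ha
      rw [map_zero] at h1
      have h2 : t ((1 : R ⧸ Ideal.span {g}) ⊗ₜ[R] algebraMap R B r) = Ideal.Quotient.mk I (algebraMap R B r) := by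
        change Algebra.TensorProduct.lift q (Ideal.Quotient.mkₐ R I) _ _ = _
        rw [Algebra.TensorProduct.lift_tmul, map_one, one_mul]
        rfl
      rw [h2, Ideal.Quotient.eq_zero_iff_mem] at h1
      obtain ⟨c, hc⟩ := Ideal.mem_span_singleton'.1 h1
      exact Ideal.Quotient.eq_zero_iff_mem.2 (hinj r ⟨c, by rw [← hc, mul_comm]⟩)
    exact Module.Flat.of_linearEquiv (LinearEquiv.ofBijective f ⟨hfi, hfs⟩).symm

theorem flat_of_principal [IsLocalRing R] [IsLocalRing B]
    [IsNoetherianRing R] [IsNoetherianRing B] [IsLocalHom (algebraMap R B)]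
    (g : R) (hg : g ∈ IsLocalRing.maximalIdeal R) (hreg : g ∈ nonZeroDivisors R) (hp : (Ideal.span {g}).IsPrime)
    (J : Ideal B) (hJ : J ≤ IsLocalRing.maximalIdeal B) (n : ℕ) (hn : 0 < n)
    (h₁ : Function.Surjective (algebraMap R (B ⧸ J ^ 2)))
    (h₂ : RingHom.ker (algebraMap R (B ⧸ J ^ 2)) = Ideal.span {g ^ (2 * n)})
    (h₃ : RingHom.ker (algebraMap R (B ⧸ J)) = Ideal.span {g ^ n}) :
    J = Ideal.span {algebraMap R B g ^ n} ∧
    (Ideal.span {algebraMap R B g}).IsPrime ∧
    ((∃ 𝔭 : Ideal B, 𝔭.IsPrime ∧ 𝔭 < Ideal.span {algebraMap R B g}) →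
      Module.Flat R B ∧ (IsLocalRing.maximalIdeal R).map (algebraMap R B) = IsLocalRing.maximalIdeal B ∧
      Function.Surjective (algebraMap R (B ⧸ IsLocalRing.maximalIdeal B))) := by
  have hloc : (maximalIdeal R).map (algebraMap R B) ≤ maximalIdeal B :=
    ((IsLocalRing.local_hom_TFAE (algebraMap R B)).out 0 2).1 ‹_›
  -- `J` is generated by `g ^ n`
  have hker : ∀ (I : Ideal B) (r : R), r ∈ RingHom.ker (algebraMap R (B ⧸ I)) ↔ algebraMap R B r ∈ I := by
    intro I r
    rw [RingHom.mem_ker]
    exact Ideal.Quotient.eq_zero_iff_mem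
  have hgn : algebraMap R B g ^ n ∈ J := by
    rw [← map_pow, ← hker, h₃]
    exact Ideal.mem_span_singleton_self _
  have hJ1 : J = Ideal.span {algebraMap R B g ^ n} := by
    refine le_antisymm ?_ ((Ideal.span_singleton_le_iff_mem _).2 hgn)
    refine Submodule.le_of_le_smul_of_le_jacobson_bot (I := J) (IsNoetherian.noetherian J)
      (hJ.trans (IsLocalRing.maximalIdeal_le_jacobson _)) ?_
    intro b hb
    obtain ⟨r, hr⟩ := h₁ (Ideal.Quotient.mk _ b)
    have h4 : b - algebraMap R B r ∈ J ^ 2 := by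
      rw [← Ideal.Quotient.eq_zero_iff_mem, map_sub, sub_eq_zero]
      exact hr.symm
    have h5 : algebraMap R B r ∈ J := by
      have : algebraMap R B r = b - (b - algebraMap R B r) := by ring
      rw [this]
      exact J.sub_mem hb (Ideal.pow_le_self two_ne_zero h4)
    rw [← hker, h₃, Ideal.mem_span_singleton'] at h5
    obtain ⟨c, hc⟩ := h5
    have : b = algebraMap R B c * algebraMap R B g ^ n + (b - algebraMap R B r) := by
      rw [← hc, map_mul, map_pow]; ring
    rw [this]
    refine Submodule.add_mem_sup (Ideal.mul_mem_left _ _ (Ideal.mem_span_singleton_self _)) ?_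
    rw [smul_eq_mul, ← pow_two]
    exact h4
  have hJ2 : J ^ 2 = Ideal.span {algebraMap R B g ^ (2 * n)} := by
    rw [hJ1, Ideal.span_singleton_pow, ← pow_mul, mul_comm]
  have hsurj : ∀ b : B, ∃ r : R, ∃ b' : B, b = algebraMap R B r + algebraMap R B g * b' := by
    intro b
    obtain ⟨r, hr⟩ := h₁ (Ideal.Quotient.mk _ b)
    have h4 : b - algebraMap R B r ∈ J ^ 2 := by
      rw [← Ideal.Quotient.eq_zero_iff_mem, map_sub, sub_eq_zero]
      exact hr.symm
    rw [hJ2, Ideal.mem_span_singleton'] at h4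
    obtain ⟨c, hc⟩ := h4
    refine ⟨r, c * algebraMap R B g ^ (2 * n - 1), ?_⟩
    have : algebraMap R B g ^ (2 * n) = algebraMap R B g ^ (2 * n - 1) * algebraMap R B g := by
      rw [← pow_succ]; congr 1; omega
    rw [this] at hc
    linear_combination -hc
  have hinj : ∀ r : R, (∃ b : B, algebraMap R B r = algebraMap R B g * b) → r ∈ Ideal.span {g} := by
    rintro r ⟨b, hb⟩
    obtain ⟨s, hs⟩ := h₁ (Ideal.Quotient.mk _ b)
    have h4 : b - algebraMap R B s ∈ J ^ 2 := by
      rw [← Ideal.Quotient.eq_zero_iff_mem, map_sub, sub_eq_zero]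
      exact hs.symm
    have h5 : r - g * s ∈ RingHom.ker (algebraMap R (B ⧸ J ^ 2)) := by
      rw [hker, map_sub, map_mul, hb, ← mul_sub]
      exact Ideal.mul_mem_left _ _ h4
    rw [h₂, Ideal.mem_span_singleton'] at h5
    obtain ⟨c, hc⟩ := h5
    rw [Ideal.mem_span_singleton']
    refine ⟨s + c * g ^ (2 * n - 1), ?_⟩
    have : g ^ (2 * n) = g ^ (2 * n - 1) * g := by
      rw [← pow_succ]; congr 1; omega
    rw [this] at hc
    linear_combination hc
  refine ⟨hJ1, ?_, ?_⟩
  · refine ⟨?_, ?_⟩
    · rw [Ne, Ideal.eq_top_iff_one, Ideal.mem_span_singleton']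
      rintro ⟨c, hc⟩
      have h6 : (1 : B) ∈ maximalIdeal B := by
        rw [← hc]
        exact Ideal.mul_mem_left _ _ (hloc (Ideal.mem_map_of_mem _ hg))
      exact (Ideal.ne_top_iff_one _).1 (maximalIdeal.isMaximal B).ne_top h6
    · intro x y hxy
      obtain ⟨r, b, hb⟩ := hsurj x
      obtain ⟨s, c, hc⟩ := hsurj y
      rw [Ideal.mem_span_singleton'] at hxy
      obtain ⟨e, he⟩ := hxy
      have h7 : r * s ∈ Ideal.span {g} := by
        apply hinj
        refine ⟨e - algebraMap R B r * c - b * algebraMap R B s - algebraMap R B g * b * c, ?_⟩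
        rw [hb, hc] at he
        rw [map_mul]
        linear_combination -he
      rcases hp.mem_or_mem h7 with h8 | h8
      · left
        rw [Ideal.mem_span_singleton'] at h8 ⊢
        obtain ⟨w, rfl⟩ := h8
        refine ⟨algebraMap R B w + b, ?_⟩
        rw [hb, map_mul]; ring
      · right
        rw [Ideal.mem_span_singleton'] at h8 ⊢
        obtain ⟨w, rfl⟩ := h8
        refine ⟨algebraMap R B w + c, ?_⟩
        rw [hc, map_mul]; ring
  · rintro ⟨𝔭, h𝔭, hlt⟩
    have hg𝔭 : algebraMap R B g ∉ 𝔭 := by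
      intro h
      exact absurd ((Ideal.span_singleton_le_iff_mem _).2 h) (not_le_of_gt hlt)
    have h𝔭0 : 𝔭 = ⊥ := by
      refine Submodule.eq_bot_of_le_smul_of_le_jacobson_bot (maximalIdeal B) 𝔭
        (IsNoetherian.noetherian 𝔭) ?_ (IsLocalRing.maximalIdeal_le_jacobson _)
      intro x hx
      obtain ⟨c, rfl⟩ := Ideal.mem_span_singleton'.1 (hlt.le hx)
      have hc : c ∈ 𝔭 := (h𝔭.mem_or_mem hx).resolve_right hg𝔭
      rw [mul_comm, smul_eq_mul]
      exact Ideal.mul_mem_mul (hloc (Ideal.mem_map_of_mem _ hg)) hc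
    subst h𝔭0
    have hregB : ∀ b : B, algebraMap R B g * b = 0 → b = 0 := by
      intro b hb
      exact (h𝔭.mem_or_mem (show algebraMap R B g * b ∈ (⊥ : Ideal B) from hb)).resolve_left hg𝔭
    have hmm : (maximalIdeal R).map (algebraMap R B) = maximalIdeal B := by
      refine le_antisymm hloc ?_
      intro b hb
      obtain ⟨r, c, rfl⟩ := hsurj b
      have hgc : algebraMap R B g * c ∈ maximalIdeal B :=
        Ideal.mul_mem_right _ _ (hloc (Ideal.mem_map_of_mem _ hg))
      have hr : algebraMap R B r ∈ maximalIdeal B := by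
        have := Ideal.sub_mem _ hb hgc
        rwa [add_sub_cancel_right] at this
      have hr' : r ∈ maximalIdeal R := by
        by_contra h
        have h9 : IsUnit r := by
          by_contra h10
          exact h ((mem_maximalIdeal r).2 h10)
        exact (mem_maximalIdeal _).1 hr (h9.map _)
      exact Ideal.add_mem _ (Ideal.mem_map_of_mem _ hr')
        (Ideal.mul_mem_right _ _ (Ideal.mem_map_of_mem _ hg))
    refine ⟨flat_of_bij g hg hsurj hinj hregB, hmm, ?_⟩
    intro x
    obtain ⟨b, rfl⟩ := Ideal.Quotient.mk_surjective x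
    obtain ⟨r, c, rfl⟩ := hsurj b
    refine ⟨r, ?_⟩
    change Ideal.Quotient.mk _ (algebraMap R B r) = _
    rw [Ideal.Quotient.eq, sub_add_cancel_left]
    exact (Ideal.neg_mem_iff _).2 (Ideal.mul_mem_right _ _ (hloc (Ideal.mem_map_of_mem _ hg)))

end

end K917.ContrFlat
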