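import Groth.Agent.CalgC.DimFT
import Groth.Agent.Ega4late.H525.SmoothRegSeq
import Mathlib.RingTheory.KrullDimension.Regular
import Mathlib.RingTheory.KrullDimension.NonZeroDivisors
import Groth.Agent.Divis.CartierStalk
import Groth.Agent.Ega4late.H532.GlueStalk

/-!
# S14992, node D: dimension theory, local rings of closed immersions, specializations
-/

set_option autoImplicit false
universe u

section
open IsLocalRing

namespace K917.ContrDim

theorem two_le_dim (k : Type u) {C E B : Type u} [Field k] [CommRing C] [IsDomain C] [Algebra k C]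
    [Algebra.FiniteType k C] (M : Ideal C) [M.IsMaximal] (hM : 2 ≤ ringKrullDim (Localization.AtPrime M))
    [CommRing E] [Algebra C E] [Algebra.FiniteType C E] [CommRing B] [Algebra E B]
    (m : Ideal E) [m.IsMaximal] [IsLocalization.AtPrime B m] (P : Ideal B) [P.IsPrime]
    (hP : (P.comap (algebraMap E B)).comap (algebraMap C E) = ⊥) : 2 ≤ ringKrullDim (B ⧸ P) := by
  let P' : Ideal E := P.comap (algebraMap E B)
  have hP' : P'.IsPrime := inferInstance
  let _ : Algebra k E := ((algebraMap C E).comp (algebraMap k C)).toAlgebra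
  have _ : IsScalarTower k C E := IsScalarTower.of_algebraMap_eq (fun _ => rfl)
  have _ : Algebra.FiniteType k E := Algebra.FiniteType.trans (S := C) inferInstance inferInstance
  obtain ⟨d, hd1, hd2, hd3⟩ := Groth.Agent.CalgC.DimFT.exists_dim k (E ⧸ P')
  obtain ⟨n, hn1, hn2, hn3⟩ := Groth.Agent.CalgC.DimFT.exists_dim k C
  have h2n : (2 : WithBot ℕ∞) ≤ (n : ℕ) := by
    rw [IsLocalization.AtPrime.ringKrullDim_eq_height M, hn3 M inferInstance] at hM
    exact hM
  have hinj : Function.Injective (algebraMap C (E ⧸ P')) := by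
    rw [RingHom.injective_iff_ker_eq_bot, ← hP]
    ext c
    rw [RingHom.mem_ker, IsScalarTower.algebraMap_apply C E (E ⧸ P')]
    exact Ideal.Quotient.eq_zero_iff_mem
  have hnd : n ≤ d := by
    have h := trdeg_le_of_injective (IsScalarTower.toAlgHom k C (E ⧸ P')) hinj
    rw [hn2, hd2] at h
    exact_mod_cast h
  have hP'm : P' ≤ m := by
    intro x hx
    by_contra hxm
    have h1 : IsUnit (algebraMap E B x) := IsLocalization.map_units B (⟨x, hxm⟩ : m.primeCompl)
    exact (inferInstance : P.IsPrime).ne_top (Ideal.eq_top_of_isUnit_mem _ hx h1)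
  let m' : Ideal (E ⧸ P') := m.map (Ideal.Quotient.mk P')
  have hm' : m'.IsMaximal := by
    refine Ideal.IsMaximal.map_of_surjective_of_ker_le Ideal.Quotient.mk_surjective ?_
    rw [Ideal.mk_ker]
    exact hP'm
  have hcomap : m'.comap (Ideal.Quotient.mk P') = m := by
    rw [Ideal.comap_map_of_surjective _ Ideal.Quotient.mk_surjective, ← RingHom.ker_eq_comap_bot, Ideal.mk_ker]
    exact sup_eq_left.2 hP'm
  have hPm : P = P'.map (algebraMap E B) := (IsLocalization.map_comap m.primeCompl B P).symm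
  let _ : Algebra (E ⧸ P') (B ⧸ P) := (Ideal.quotientMap P (algebraMap E B) le_rfl).toAlgebra
  have hloc : IsLocalization.AtPrime (B ⧸ P) m' :=
    Groth.Agent.Ega4late.H525.SmoothRegSeq.isLocalization_atPrime_quotient m P' m' hcomap P hPm
      (fun c => by
        change Ideal.quotientMap P (algebraMap E B) le_rfl (Ideal.Quotient.mk _ c) = _
        rw [Ideal.quotientMap_mk])
  rw [IsLocalization.AtPrime.ringKrullDim_eq_height m' (B ⧸ P), hd3 m' hm']
  refine h2n.trans ?_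
  exact_mod_cast hnd

theorem lt_of_dim {B : Type u} [CommRing B] [IsLocalRing B] [IsNoetherianRing B] (b : B)
    (hb : (Ideal.span {b}).IsPrime) (hd : ringKrullDim (B ⧸ Ideal.span {b}) ≤ 1)
    (P : Ideal B) [P.IsPrime] (hP : 2 ≤ ringKrullDim (B ⧸ P)) (hbP : b ∉ P) : P < Ideal.span {b} := by
  have hbm : b ∈ maximalIdeal B := IsLocalRing.le_maximalIdeal hb.ne_top (Ideal.mem_span_singleton_self b)
  refine lt_of_le_of_ne ?_ (fun h => hbP (h ▸ Ideal.mem_span_singleton_self b))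
  by_contra hle
  obtain ⟨r, hrP, hrb⟩ := Set.not_subset.1 hle
  have h1 : ringKrullDim ((B ⧸ Ideal.span {b}) ⧸ Ideal.span {Ideal.Quotient.mk (Ideal.span {b}) r}) + 1 ≤
      ringKrullDim (B ⧸ Ideal.span {b}) := by
    apply ringKrullDim_quotient_succ_le_of_nonZeroDivisor
    apply mem_nonZeroDivisors_of_ne_zero
    rw [Ne, Ideal.Quotient.eq_zero_iff_mem]
    exact hrb
  have h2 : ringKrullDim ((B ⧸ P) ⧸ Ideal.span {Ideal.Quotient.mk P b}) ≤
      ringKrullDim ((B ⧸ Ideal.span {b}) ⧸ Ideal.span {Ideal.Quotient.mk (Ideal.span {b}) r}) := by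
    have e1 : Ideal.span {Ideal.Quotient.mk P b} = (Ideal.span {b}).map (Ideal.Quotient.mk P) := by
      rw [Ideal.map_span, Set.image_singleton]
    have e2 : Ideal.span {Ideal.Quotient.mk (Ideal.span {b}) r} =
        (Ideal.span {r}).map (Ideal.Quotient.mk (Ideal.span {b})) := by
      rw [Ideal.map_span, Set.image_singleton]
    rw [e1, e2, ringKrullDim_eq_of_ringEquiv (DoubleQuot.quotQuotEquivQuotSup P (Ideal.span {b})),
      ringKrullDim_eq_of_ringEquiv (DoubleQuot.quotQuotEquivQuotSup (Ideal.span {b}) (Ideal.span {r}))]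
    refine ringKrullDim_le_of_surjective (Ideal.Quotient.factor (sup_le le_sup_right ?_))
      (Ideal.Quotient.factor_surjective _)
    exact ((Ideal.span_singleton_le_iff_mem _).2 hrP).trans le_sup_left
  have h3 : ringKrullDim (B ⧸ P) ≤
      ringKrullDim ((B ⧸ P) ⧸ Ideal.span {Ideal.Quotient.mk P b}) + 1 := by
    have _ : Nontrivial (B ⧸ P) := Ideal.Quotient.nontrivial_iff.2 (inferInstance : P.IsPrime).ne_top
    have _ : IsLocalRing (B ⧸ P) := IsLocalRing.of_surjective' _ Ideal.Quotient.mk_surjective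
    have h4 : Ideal.Quotient.mk P b ∈ Ring.jacobson (B ⧸ P) := by
      rw [IsLocalRing.ringJacobson_eq_maximalIdeal]
      rw [mem_maximalIdeal, mem_nonunits_iff]
      intro hu
      obtain ⟨c, hc⟩ := hu.exists_right_inv
      obtain ⟨c, rfl⟩ := Ideal.Quotient.mk_surjective c
      rw [← map_mul, ← map_one (Ideal.Quotient.mk P), Ideal.Quotient.eq] at hc
      have h5 : b * c - 1 ∈ maximalIdeal B := IsLocalRing.le_maximalIdeal (inferInstance : P.IsPrime).ne_top hc
      have h6 : (1 : B) ∈ maximalIdeal B := by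
        have := Ideal.sub_mem _ (Ideal.mul_mem_right c _ hbm) h5
        simpa using this
      exact (Ideal.ne_top_iff_one _).1 (maximalIdeal.isMaximal B).ne_top h6
    have h7 := ringKrullDim_le_ringKrullDim_quotient_add_card (R := B ⧸ P) {Ideal.Quotient.mk P b}
      (by simpa using h4)
    rw [Finset.coe_singleton, Finset.card_singleton] at h7
    exact_mod_cast h7
  have h8 : (2 : WithBot ℕ∞) ≤ 1 := hP.trans (h3.trans ((add_le_add_left h2 1).trans (h1.trans hd)))
  exact absurd h8 (by decide)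

end K917.ContrDim

end

section
open CategoryTheory CategoryTheory.Limits AlgebraicGeometry TopologicalSpace
open Groth.Agent.Divis.CartierBasic Groth.Agent.Divis.CartierStalk

namespace K917.ContrPt

theorem stalk_facts {Z W X : Scheme.{u}} (i : Z ⟶ W) (φ : W ⟶ X) [IsClosedImmersion i]
    [IsClosedImmersion (i ≫ φ)] (z : Z) (x : W) (hx : i z = x) :
    (∀ b : W.presheaf.stalk x, ∃ r : X.presheaf.stalk (φ x), (φ.stalkMap x).hom r - b ∈ stalkIdeal i.ker x) ∧
    (∀ r : X.presheaf.stalk (φ x), (φ.stalkMap x).hom r ∈ stalkIdeal i.ker x ↔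
      r ∈ stalkIdeal (i ≫ φ).ker (φ x)) ∧ stalkIdeal i.ker x ≤ IsLocalRing.maximalIdeal _ := by
  subst hx
  have h1 : ∀ r, ((i ≫ φ).stalkMap z).hom r = (i.stalkMap z).hom ((φ.stalkMap (i z)).hom r) := by
    intro r
    rw [Scheme.Hom.stalkMap_comp]
    rfl
  have h2 : Function.Surjective ((i ≫ φ).stalkMap z).hom := (i ≫ φ).stalkMap_surjective z
  refine ⟨fun b => ?_, fun r => ?_, ?_⟩
  · obtain ⟨r, hr⟩ := h2 ((i.stalkMap z).hom b)
    refine ⟨r, ?_⟩
    rw [← ker_stalkMap, RingHom.mem_ker, map_sub, ← h1, hr, sub_self]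
  · rw [← ker_stalkMap, RingHom.mem_ker, ← h1]
    have h3 := ker_stalkMap (i ≫ φ) z
    rw [← RingHom.mem_ker, h3]
    rfl
  · rw [← ker_stalkMap]
    exact IsLocalRing.le_maximalIdeal (RingHom.ker_ne_top _)

theorem exists_mul_mem {E B : Type u} [CommRing E] [CommRing B] [Algebra E B] (S : Submonoid E)
    [IsLocalization S B] (a b : Ideal E) (ha : a.FG)
    (h : a.map (algebraMap E B) ≤ b.map (algebraMap E B)) : ∃ s ∈ S, ∀ e ∈ a, s * e ∈ b := by
  have h1 : ∀ e ∈ a, ∃ s ∈ S, s * e ∈ b := by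
    intro e he
    have h2 := h (Ideal.mem_map_of_mem _ he)
    obtain ⟨s, hs, h3⟩ := (IsLocalization.algebraMap_mem_map_algebraMap_iff S B b e).1 h2
    exact ⟨s, hs, h3⟩
  obtain ⟨t, rfl⟩ := ha
  classical
  have h2 : ∀ e ∈ t, ∃ s ∈ S, s * e ∈ b := fun e he => h1 e (Ideal.subset_span he)
  choose! f hf1 hf2 using h2
  refine ⟨∏ e ∈ t, f e, S.prod_mem hf1, ?_⟩
  intro e he
  have h3 : Ideal.span (t : Set E) ≤ Submodule.comap (LinearMap.mulLeft E (∏ e ∈ t, f e)) b := by
    rw [Ideal.span, Submodule.span_le]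
    intro e he
    change (∏ e ∈ t, f e) * e ∈ b
    rw [← Finset.mul_prod_erase t f he, mul_comm (f e), mul_assoc]
    exact Ideal.mul_mem_left _ _ (hf2 e he)
  exact h3 he

theorem exists_nhd_le {W : Scheme.{u}} [IsLocallyNoetherian W] (I J : W.IdealSheafData) (x : W)
    (h : stalkIdeal I x ≤ stalkIdeal J x) : ∃ U : W.Opens, x ∈ U ∧ ∀ y ∈ U, stalkIdeal I y ≤ stalkIdeal J y := by
  obtain ⟨V, hx⟩ := exists_affine x
  have hV : IsAffineOpen V.1 := V.2
  have hN : IsNoetherianRing Γ(W, V.1) := IsLocallyNoetherian.component_noetherian V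
  let _ := W.presheaf.algebra_section_stalk (⟨x, hx⟩ : V.1)
  have hloc : IsLocalization.AtPrime (W.presheaf.stalk x) (hV.primeIdealOf ⟨x, hx⟩).asIdeal :=
    hV.isLocalization_stalk ⟨x, hx⟩
  rw [stalkIdeal_eq I V hx, stalkIdeal_eq J V hx] at h
  obtain ⟨s, hs, hs'⟩ := exists_mul_mem (B := W.presheaf.stalk x)
    (hV.primeIdealOf ⟨x, hx⟩).asIdeal.primeCompl (I.ideal V) (J.ideal V)
    (IsNoetherian.noetherian _) h
  have hu : IsUnit (W.presheaf.germ V.1 x hx s) :=
    IsLocalization.map_units (W.presheaf.stalk x) (⟨s, hs⟩ : (hV.primeIdealOf ⟨x, hx⟩).asIdeal.primeCompl)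
  refine ⟨W.basicOpen s, (W.mem_basicOpen s x hx).2 hu, ?_⟩
  intro y hy
  have hyV : y ∈ V.1 := W.basicOpen_le s hy
  have huy : IsUnit (W.presheaf.germ V.1 y hyV s) := (W.mem_basicOpen s y hyV).1 hy
  rw [stalkIdeal_eq I V hyV, stalkIdeal_eq J V hyV, Ideal.map_le_iff_le_comap]
  intro e he
  have h4 := Ideal.mem_map_of_mem (W.presheaf.germ V.1 y hyV).hom (hs' e he)
  rw [map_mul] at h4
  exact (Ideal.unit_mul_mem_iff_mem _ huy).1 h4

theorem exists_nhd_eq {W : Scheme.{u}} [IsLocallyNoetherian W] (I J : W.IdealSheafData) (x : W)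
    (h : stalkIdeal I x = stalkIdeal J x) : ∃ U : W.Opens, x ∈ U ∧ ∀ y ∈ U, stalkIdeal I y = stalkIdeal J y := by
  obtain ⟨U, hxU, hU⟩ := exists_nhd_le I J x h.le
  obtain ⟨V, hxV, hV⟩ := exists_nhd_le J I x h.ge
  exact ⟨U ⊓ V, ⟨hxU, hxV⟩, fun y hy => le_antisymm (hU y hy.1) (hV y hy.2)⟩

/-- stalks of the ideal of a closed subscheme of an affine scheme -/
theorem stalkIdeal_ker_specMap {A B : CommRingCat.{u}} (f : A ⟶ B) (p : Spec A) :
    stalkIdeal (Spec.map f).ker p = (RingHom.ker f.hom).map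
      ((Scheme.ΓSpecIso A).inv ≫ (Spec A).presheaf.germ ⊤ p trivial).hom := by
  rw [Scheme.ker_of_isAffine, Groth.Agent.Ega4late.H532.GlueStalk.stalkIdeal_ofIdealTop,
    CommRingCat.hom_comp, ← Ideal.map_map]
  congr 1
  have h1 : (Spec.map f).appTop = (Scheme.ΓSpecIso A).hom ≫ f ≫ (Scheme.ΓSpecIso B).inv := by
    rw [← Category.assoc, ← Scheme.ΓSpecIso_naturality, Category.assoc, Iso.hom_inv_id, Category.comp_id]
  ext s
  rw [RingHom.mem_ker, h1]
  have hinv : ∀ s, (Scheme.ΓSpecIso A).inv.hom ((Scheme.ΓSpecIso A).hom.hom s) = s := by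
    intro s
    rw [← RingHom.comp_apply, ← CommRingCat.hom_comp, Iso.hom_inv_id]
    rfl
  constructor
  · intro hs
    rw [← hinv s]
    apply Ideal.mem_map_of_mem
    rw [RingHom.mem_ker]
    apply (ConcreteCategory.bijective_of_isIso (Scheme.ΓSpecIso B).inv).1
    rw [map_zero]
    exact hs
  · intro hs
    have h2 := Ideal.mem_map_of_mem (Scheme.ΓSpecIso A).hom.hom hs
    rw [Ideal.map_map, ← CommRingCat.hom_comp, Iso.inv_hom_id, CommRingCat.hom_id, Ideal.map_id] at h2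
    rw [CommRingCat.hom_comp, CommRingCat.hom_comp, RingHom.comp_apply, RingHom.comp_apply, RingHom.mem_ker.1 h2,
      map_zero]

end K917.ContrPt

end

section
open CategoryTheory CategoryTheory.Limits AlgebraicGeometry TopologicalSpace
open Groth.Agent.Divis.CartierBasic Groth.Agent.Divis.CartierStalk

namespace K917.ContrSpec

theorem exists_points {C : Type u} [CommRing C] [IsDomain C] (M : Ideal C) [hM : M.IsMaximal] {W : Scheme.{u}}
    (q : W ⟶ Spec (CommRingCat.of C)) [IsProper q] [Surjective q] :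
    ∃ ζ x₀ : W, q ζ = (⟨⊥, Ideal.isPrime_bot⟩ : PrimeSpectrum C) ∧
      q x₀ = (⟨M, hM.isPrime⟩ : PrimeSpectrum C) ∧ ζ ⤳ x₀ ∧ IsClosed ({x₀} : Set W) := by
  obtain ⟨ζ, hζ⟩ := q.surjective (⟨⊥, Ideal.isPrime_bot⟩ : PrimeSpectrum C)
  have hcl : IsClosed (q '' closure {ζ}) := q.isClosedMap _ isClosed_closure
  have h1 : (⟨M, hM.isPrime⟩ : PrimeSpectrum C) ∈ q '' closure {ζ} := by
    have h2 : (⟨⊥, Ideal.isPrime_bot⟩ : PrimeSpectrum C) ⤳ (⟨M, hM.isPrime⟩ : PrimeSpectrum C) := by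
      rw [← PrimeSpectrum.le_iff_specializes]
      exact bot_le (a := M)
    exact h2.mem_closed hcl ⟨ζ, subset_closure rfl, hζ⟩
  obtain ⟨x₁, hx₁, hqx₁⟩ := h1
  have _ : CompactSpace W := QuasiCompact.compactSpace_of_compactSpace q
  obtain ⟨x₀, hx₀, hx₀c⟩ := IsClosed.exists_closed_singleton (S := closure {x₁}) isClosed_closure
    ⟨x₁, subset_closure rfl⟩
  refine ⟨ζ, x₀, hζ, ?_, ?_, hx₀c⟩
  · have h3 : x₁ ⤳ x₀ := specializes_iff_mem_closure.2 hx₀
    have h4 : q x₁ ⤳ q x₀ := h3.map q.continuous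
    rw [hqx₁] at h4
    have h4' : (⟨M, hM.isPrime⟩ : PrimeSpectrum C) ≤ q x₀ :=
      (PrimeSpectrum.le_iff_specializes (⟨M, hM.isPrime⟩ : PrimeSpectrum C) (q x₀)).2 h4
    have h5 : M = (q x₀).asIdeal := hM.eq_of_le (q x₀).isPrime.ne_top h4'
    exact PrimeSpectrum.ext h5.symm
  · exact (specializes_iff_mem_closure.2 hx₁).trans (specializes_iff_mem_closure.2 hx₀)

theorem two_le_dim_stalk (k : Type u) {C : Type u} [Field k] [CommRing C] [IsDomain C] [Algebra k C]
    [Algebra.FiniteType k C] (M : Ideal C) [M.IsMaximal] (hM : 2 ≤ ringKrullDim (Localization.AtPrime M))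
    {W : Scheme.{u}} (q : W ⟶ Spec (CommRingCat.of C)) [LocallyOfFiniteType q] (x₀ : W)
    (hx₀ : IsClosed ({x₀} : Set W)) (P : PrimeSpectrum (W.presheaf.stalk x₀))
    (hP : q (W.fromSpecStalk x₀ P) = (⟨⊥, Ideal.isPrime_bot⟩ : PrimeSpectrum C)) :
    2 ≤ ringKrullDim (W.presheaf.stalk x₀ ⧸ P.asIdeal) := by
  obtain ⟨V, hx⟩ := exists_affine x₀
  have hV : IsAffineOpen V.1 := V.2
  let ψ : CommRingCat.of C ⟶ Γ(W, V.1) := Spec.preimage (hV.fromSpec ≫ q)
  have hψ : Spec.map ψ = hV.fromSpec ≫ q := Spec.map_preimage _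
  let _ : Algebra C Γ(W, V.1) := ψ.hom.toAlgebra
  have hft : Algebra.FiniteType C Γ(W, V.1) := by
    have h1 : LocallyOfFiniteType (Spec.map ψ) := by rw [hψ]; infer_instance
    exact (HasRingHomProperty.Spec_iff (P := @LocallyOfFiniteType)).1 h1
  let _ := W.presheaf.algebra_section_stalk (⟨x₀, hx⟩ : V.1)
  have hloc : IsLocalization.AtPrime (W.presheaf.stalk x₀) (hV.primeIdealOf ⟨x₀, hx⟩).asIdeal :=
    hV.isLocalization_stalk ⟨x₀, hx⟩
  have hmax : (hV.primeIdealOf ⟨x₀, hx⟩).asIdeal.IsMaximal := hV.primeIdealOf_isMaximal_of_isClosed ⟨x₀, hx⟩ hx₀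
  refine K917.ContrDim.two_le_dim k M hM (hV.primeIdealOf ⟨x₀, hx⟩).asIdeal P.asIdeal ?_
  have h2 : Spec.map ψ (Spec.map (W.presheaf.germ V.1 x₀ hx) P) = (⟨⊥, Ideal.isPrime_bot⟩ : PrimeSpectrum C) := by
    rw [hψ, Scheme.Hom.comp_apply, ← hP, ← hV.fromSpecStalk_eq_fromSpecStalk hx, IsAffineOpen.fromSpecStalk,
      Scheme.Hom.comp_apply]
  exact congrArg PrimeSpectrum.asIdeal h2

end K917.ContrSpec

end
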