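import Groth.Agent.AlgSp.K621.ContrDefs
import Groth.Agent.AlgSp.K917.ContrFlat
import Groth.Agent.AlgSp.K917.ContrPt
import Groth.Agent.CurvesB.DimPts
import Groth.Agent.UnramA.FlatUnramAt
import Groth.Agent.FlatB.FppfDom
import Mathlib.AlgebraicGeometry.Morphisms.Etale

/-!
# S14992, node D: the approximated proper `W → X` is étale near the fibre
-/

set_option autoImplicit false
universe u

section
open CategoryTheory CategoryTheory.Limits AlgebraicGeometry TopologicalSpace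
open Groth.Agent.Divis.CartierBasic Groth.Agent.Divis.CartierStalk K621.ContrDefs

namespace K917.ContrLoc

lemma ker_eq_comap {Z X₁ X₂ X : Scheme.{u}} {i : Z ⟶ X₁} {j : Z ⟶ X₂} {a : X₁ ⟶ X} {b : X₂ ⟶ X}
    (h : IsPullback i j a b) [IsClosedImmersion b] : i.ker = b.ker.comap a := by
  rw [← Scheme.IdealSheafData.ker_fst_of_isClosedImmersion b a, ← h.isoPullback_hom_fst,
    Scheme.Hom.ker_comp_of_isIso]

/-- the ideal sheaf of `Spec (C/I)` in `Spec C` -/
noncomputable abbrev kerI {C : Type u} [CommRing C] (I : Ideal C) : (Spec (CommRingCat.of C)).IdealSheafData :=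
  (Spec.map (CommRingCat.ofHom (Ideal.Quotient.mk I))).ker

theorem stalkIdeal_kerI {C : Type u} [CommRing C] (I : Ideal C) (p : Spec (CommRingCat.of C)) :
    stalkIdeal (kerI I) p = I.map ((Scheme.ΓSpecIso (CommRingCat.of C)).inv ≫
      (Spec (CommRingCat.of C)).presheaf.germ ⊤ p trivial).hom := by
  rw [K917.ContrPt.stalkIdeal_ker_specMap]
  congr 1
  exact Ideal.mk_ker

theorem stalkIdeal_kerI_comap {C : Type u} [CommRing C] (I : Ideal C) {W : Scheme.{u}}
    (q : W ⟶ Spec (CommRingCat.of C)) (x : W) :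
    stalkIdeal ((kerI I).comap q) x = I.map (((Scheme.ΓSpecIso (CommRingCat.of C)).inv ≫
      (Spec (CommRingCat.of C)).presheaf.germ ⊤ (q x) trivial) ≫ q.stalkMap x).hom := by
  rw [stalkIdeal_comap, stalkIdeal_kerI, Ideal.map_map, ← CommRingCat.hom_comp]

section

variable {X W : Scheme.{u}} {C : Type u} [CommRing C] (M : Ideal C) [hM : M.IsMaximal]
  (D : X.IdealSheafData) (q : W ⟶ Spec (CommRingCat.of C)) (φ : W ⟶ X) (n : ℕ)
  (w : (D ^ (n * 2)).subscheme ⟶ W) (hwφ : w ≫ φ = (D ^ (n * 2)).subschemeι)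
  (r₁ : (D ^ (n * 2)).subscheme ⟶ Spec (CommRingCat.of (C ⧸ M ^ 2)))
  (r₀ : (D ^ n).subscheme ⟶ Spec (CommRingCat.of (C ⧸ M)))
  (h₁ : IsPullback w r₁ q (Spec.map (CommRingCat.ofHom (Ideal.Quotient.mk (M ^ 2)))))
  (h₀ : IsPullback (Scheme.IdealSheafData.inclusion (pow_anti D (Nat.le_mul_of_pos_right n two_pos)) ≫ w) r₀ q
      (Spec.map (CommRingCat.ofHom (Ideal.Quotient.mk M))))

instance {C : Type u} [CommRing C] (I : Ideal C) :
    IsClosedImmersion (Spec.map (CommRingCat.ofHom (Ideal.Quotient.mk I))) :=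
  IsClosedImmersion.spec_of_surjective _ Ideal.Quotient.mk_surjective

include h₁ in
theorem isClosedImmersion_w : IsClosedImmersion w :=
  MorphismProperty.of_isPullback h₁.flip inferInstance

include h₀ in
theorem isClosedImmersion_w₀ : IsClosedImmersion
    (Scheme.IdealSheafData.inclusion (pow_anti D (Nat.le_mul_of_pos_right n two_pos)) ≫ w) :=
  MorphismProperty.of_isPullback h₀.flip inferInstance

include h₁ in
theorem stalkIdeal_ker_w (x : W) : stalkIdeal w.ker x = (stalkIdeal ((kerI M).comap q) x) ^ 2 := by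
  rw [ker_eq_comap h₁, stalkIdeal_kerI_comap, stalkIdeal_kerI_comap, Ideal.map_pow]

include h₀ in
theorem stalkIdeal_ker_w₀ (x : W) : stalkIdeal
    (Scheme.IdealSheafData.inclusion (pow_anti D (Nat.le_mul_of_pos_right n two_pos)) ≫ w).ker x =
      stalkIdeal ((kerI M).comap q) x := by
  rw [ker_eq_comap h₀]

include h₀ in
theorem exists_pt (x : W) (hx : q x = (⟨M, hM.isPrime⟩ : PrimeSpectrum C)) : ∃ z : (D ^ n).subscheme,
    (Scheme.IdealSheafData.inclusion (pow_anti D (Nat.le_mul_of_pos_right n two_pos)) ≫ w) z = x := by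
  have h2 : x ∈ Set.range (pullback.fst q (Spec.map (CommRingCat.ofHom (Ideal.Quotient.mk M)))) := by
    rw [Scheme.Pullback.range_fst]
    have _ : IsDomain (C ⧸ M) := Ideal.Quotient.isDomain M
    refine ⟨(⟨⊥, Ideal.isPrime_bot⟩ : PrimeSpectrum (C ⧸ M)), ?_⟩
    rw [hx]
    refine PrimeSpectrum.ext ?_
    change Ideal.comap (Ideal.Quotient.mk M) ⊥ = M
    rw [← RingHom.ker_eq_comap_bot, Ideal.mk_ker]
  obtain ⟨y, hy⟩ := h2
  refine ⟨h₀.isoPullback.inv y, ?_⟩
  rw [← Scheme.Hom.comp_apply, h₀.isoPullback_inv_fst, hy]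

/-- the strict transform of the curve -/
noncomputable def wD (hn : 0 < n) : D.subscheme ⟶ W :=
  Scheme.IdealSheafData.inclusion (show D ^ (n * 2) ≤ D by
    conv_rhs => rw [← pow_one D]
    exact pow_anti D (by omega)) ≫ w

include hwφ in
theorem wD_φ (hn : 0 < n) : wD D n w hn ≫ φ = D.subschemeι := by
  rw [wD, Category.assoc, hwφ, Scheme.IdealSheafData.inclusion_subschemeι]

include h₁ in
theorem isClosedImmersion_wD (hn : 0 < n) : IsClosedImmersion (wD D n w hn) := by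
  have := isClosedImmersion_w M D q n w r₁ h₁
  rw [wD]
  infer_instance

include hwφ h₀ in
/-- every point over `M` comes from the curve -/
theorem exists_wD (hn : 0 < n) (x : W) (hx : q x = (⟨M, hM.isPrime⟩ : PrimeSpectrum C)) :
    ∃ y, wD D n w hn y = x := by
  obtain ⟨z, rfl⟩ := exists_pt M D q n w r₀ h₀ x hx
  have h3 : (D ^ n).subschemeι z ∈ D.support := by
    have h4 : (D ^ n).subschemeι z ∈ (D ^ n).support := subschemeι_mem_support (D ^ n) z
    rw [mem_support_iff_stalkIdeal_ne_top] at h4 ⊢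
    intro h5
    apply h4
    rw [stalkIdeal_pow, h5]
    exact Ideal.top_pow _ _
  obtain ⟨y, hy⟩ := exists_subscheme_apply_eq D h3
  refine ⟨y, ?_⟩
  rw [wD, Scheme.Hom.comp_apply, Scheme.Hom.comp_apply]
  congr 1
  apply (D ^ (n * 2)).subschemeι.isClosedEmbedding.injective
  rw [← Scheme.Hom.comp_apply, ← Scheme.Hom.comp_apply, Scheme.IdealSheafData.inclusion_subschemeι,
    Scheme.IdealSheafData.inclusion_subschemeι, hy]

end

end K917.ContrLoc

end

section
open CategoryTheory CategoryTheory.Limits AlgebraicGeometry TopologicalSpace IsLocalRing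
open Groth.Agent.Divis.CartierBasic Groth.Agent.Divis.CartierStalk K621.ContrDefs

namespace K917.ContrLoc

theorem formallyUnramified_of {R B : Type u} [CommRing R] [CommRing B] [IsLocalRing R] [IsLocalRing B]
    [Algebra R B] [IsLocalHom (algebraMap R B)] [Algebra.EssFiniteType R B]
    (h : (maximalIdeal R).map (algebraMap R B) = maximalIdeal B)
    (h' : Function.Surjective (algebraMap R (B ⧸ maximalIdeal B))) : Algebra.FormallyUnramified R B := by
  rw [Algebra.FormallyUnramified.iff_map_maximalIdeal_eq]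
  refine ⟨⟨fun x => ?_⟩, h⟩
  obtain ⟨r, hr⟩ := h' x
  have h1 : x = algebraMap (ResidueField R) (ResidueField B) (residue R r) := by
    rw [← hr]
    rfl
  rw [h1]
  exact isSeparable_algebraMap _

variable {X W : Scheme.{u}} {C : Type u} [CommRing C] (M : Ideal C) [hM : M.IsMaximal]
  (D : X.IdealSheafData) (q : W ⟶ Spec (CommRingCat.of C)) (φ : W ⟶ X) (n : ℕ)
  (w : (D ^ (n * 2)).subscheme ⟶ W) (hwφ : w ≫ φ = (D ^ (n * 2)).subschemeι)
  (r₁ : (D ^ (n * 2)).subscheme ⟶ Spec (CommRingCat.of (C ⧸ M ^ 2)))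
  (r₀ : (D ^ n).subscheme ⟶ Spec (CommRingCat.of (C ⧸ M)))
  (h₁ : IsPullback w r₁ q (Spec.map (CommRingCat.ofHom (Ideal.Quotient.mk (M ^ 2)))))
  (h₀ : IsPullback (Scheme.IdealSheafData.inclusion (pow_anti D (Nat.le_mul_of_pos_right n two_pos)) ≫ w) r₀ q
      (Spec.map (CommRingCat.ofHom (Ideal.Quotient.mk M))))

/-- the package at a point -/
structure Loc (hn : 0 < n) (x : W) (g : X.presheaf.stalk (φ x)) : Prop where
  nzd : g ∈ nonZeroDivisors _
  gen : stalkIdeal D (φ x) = Ideal.span {g}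
  J_eq : stalkIdeal ((kerI M).comap q) x = Ideal.span {(φ.stalkMap x).hom g ^ n}
  prime : (Ideal.span {(φ.stalkMap x).hom g}).IsPrime
  ker_wD : stalkIdeal (wD D n w hn).ker x = Ideal.span {(φ.stalkMap x).hom g}
  et : (∃ 𝔭 : Ideal (W.presheaf.stalk x), 𝔭.IsPrime ∧ 𝔭 < Ideal.span {(φ.stalkMap x).hom g}) →
    (φ.stalkMap x).hom.Flat ∧ (φ.stalkMap x).hom.FormallyUnramified

include hwφ h₁ h₀ in
theorem exists_loc [IsLocallyNoetherian X] [IsLocallyNoetherian W] [LocallyOfFiniteType φ]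
    (hD : BlowUp.IsEffCartierIdeal D) [IsIntegral D.subscheme] (hn : 0 < n) (x : W)
    (hx : q x = (⟨M, hM.isPrime⟩ : PrimeSpectrum C)) : ∃ g, Loc M D q φ n w hn x g := by
  obtain ⟨g, hg, hgen⟩ := exists_stalkIdeal_eq_span hD (φ x)
  obtain ⟨y, hy⟩ := exists_wD M D q φ n w hwφ r₀ h₀ hn x hx
  have hcl := isClosedImmersion_w M D q n w r₁ h₁
  have hcl₀ := isClosedImmersion_w₀ M D q n w r₀ h₀
  have hclD := isClosedImmersion_wD M D q n w r₁ h₁ hn
  have hclφ : IsClosedImmersion (w ≫ φ) := by rw [hwφ]; infer_instance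
  have hclφD : IsClosedImmersion (wD D n w hn ≫ φ) := by rw [wD_φ D φ n w hwφ hn]; infer_instance
  have hwφ₀ : (Scheme.IdealSheafData.inclusion (pow_anti D (Nat.le_mul_of_pos_right n two_pos)) ≫ w) ≫ φ =
      (D ^ n).subschemeι := by
    rw [Category.assoc, hwφ, Scheme.IdealSheafData.inclusion_subschemeι]
  have hclφ₀ : IsClosedImmersion
      ((Scheme.IdealSheafData.inclusion (pow_anti D (Nat.le_mul_of_pos_right n two_pos)) ≫ w) ≫ φ) := by
    rw [hwφ₀]; infer_instance
  -- facts for `w`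
  obtain ⟨z, hz⟩ := exists_pt M D q n w r₀ h₀ x hx
  obtain ⟨ha1, ha2, ha3⟩ := K917.ContrPt.stalk_facts w φ
    (Scheme.IdealSheafData.inclusion (pow_anti D (Nat.le_mul_of_pos_right n two_pos)) z) x
    (by rw [← Scheme.Hom.comp_apply]; exact hz)
  obtain ⟨hb1, hb2, hb3⟩ := K917.ContrPt.stalk_facts _ φ z x hz
  obtain ⟨hc1, hc2, hc3⟩ := K917.ContrPt.stalk_facts (wD D n w hn) φ y x hy
  rw [hwφ, Scheme.IdealSheafData.ker_subschemeι, stalkIdeal_pow, hgen, Ideal.span_singleton_pow] at ha2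
  rw [hwφ₀, Scheme.IdealSheafData.ker_subschemeι, stalkIdeal_pow, hgen, Ideal.span_singleton_pow] at hb2
  rw [wD_φ D φ n w hwφ hn, Scheme.IdealSheafData.ker_subschemeι, hgen] at hc2
  rw [stalkIdeal_ker_w M D q n w r₁ h₁] at ha1 ha2
  rw [stalkIdeal_ker_w₀ M D q n w r₀ h₀] at hb1 hb2 hb3
  -- the prime
  have hprime : (Ideal.span {g}).IsPrime := by
    rw [← hgen]
    have h3 : D.subschemeι y = φ x := by
      rw [← wD_φ D φ n w hwφ hn, Scheme.Hom.comp_apply, hy]
    rw [← h3, ← ker_stalkMap_subschemeι]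
    exact RingHom.ker_isPrime _
  have hgm : g ∈ maximalIdeal (X.presheaf.stalk (φ x)) :=
    IsLocalRing.le_maximalIdeal hprime.ne_top (Ideal.mem_span_singleton_self g)
  let _ := (φ.stalkMap x).hom.toAlgebra
  have hloc : IsLocalHom (algebraMap (X.presheaf.stalk (φ x)) (W.presheaf.stalk x)) :=
    inferInstanceAs (IsLocalHom (φ.stalkMap x).hom)
  have hess : Algebra.EssFiniteType (X.presheaf.stalk (φ x)) (W.presheaf.stalk x) :=
    LocallyOfFiniteType.stalkMap φ x
  have key := K917.ContrFlat.flat_of_principal (R := X.presheaf.stalk (φ x)) (B := W.presheaf.stalk x) g hgm hg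
    hprime (stalkIdeal ((kerI M).comap q) x) hb3 n hn (by
      intro b
      obtain ⟨b, rfl⟩ := Ideal.Quotient.mk_surjective b
      obtain ⟨r, hr⟩ := ha1 b
      refine ⟨r, ?_⟩
      change Ideal.Quotient.mk _ ((φ.stalkMap x).hom r) = _
      rw [Ideal.Quotient.eq]
      exact hr) (by
      ext r
      rw [RingHom.mem_ker, mul_comm 2 n, ← ha2 r]
      exact Ideal.Quotient.eq_zero_iff_mem) (by
      ext r
      rw [RingHom.mem_ker, ← hb2 r]
      exact Ideal.Quotient.eq_zero_iff_mem)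
  obtain ⟨k1, k2, k3⟩ := key
  refine ⟨g, hg, hgen, k1, k2, ?_, ?_⟩
  · have hge : Ideal.span {(φ.stalkMap x).hom g} ≤ stalkIdeal (wD D n w hn).ker x := by
      rw [Ideal.span_singleton_le_iff_mem, hc2]
      exact Ideal.mem_span_singleton_self g
    refine le_antisymm ?_ hge
    intro b hb
    obtain ⟨r, hr⟩ := ha1 b
    have hJ2 : (stalkIdeal ((kerI M).comap q) x) ^ 2 ≤ Ideal.span {(φ.stalkMap x).hom g} := by
      rw [k1, Ideal.span_singleton_pow, Ideal.span_singleton_le_iff_mem, ← pow_mul]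
      exact Ideal.pow_mem_of_mem _ (Ideal.mem_span_singleton_self _) _ (by omega)
    have h5 : (φ.stalkMap x).hom r ∈ stalkIdeal (wD D n w hn).ker x := by
      have : (φ.stalkMap x).hom r = ((φ.stalkMap x).hom r - b) + b := by ring
      rw [this]
      exact Ideal.add_mem _ (hge (hJ2 hr)) hb
    rw [hc2] at h5
    obtain ⟨c, rfl⟩ := Ideal.mem_span_singleton'.1 h5
    have h6 : b = (φ.stalkMap x).hom (c * g) - ((φ.stalkMap x).hom (c * g) - b) := by ring
    rw [h6]
    refine Ideal.sub_mem _ ?_ (hJ2 hr)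
    rw [map_mul]
    exact Ideal.mul_mem_left _ _ (Ideal.mem_span_singleton_self _)
  · intro h
    obtain ⟨l1, l2, l3⟩ := k3 h
    exact ⟨l1, formallyUnramified_of l2 l3⟩

include hwφ h₁ h₀ in
theorem dim_le [IsIntegral D.subscheme] (hdim : topologicalKrullDim D.subscheme ≤ 1) (hn : 0 < n) (x : W)
    (hx : q x = (⟨M, hM.isPrime⟩ : PrimeSpectrum C)) :
    ringKrullDim (W.presheaf.stalk x ⧸ stalkIdeal (wD D n w hn).ker x) ≤ 1 := by
  obtain ⟨y, rfl⟩ := exists_wD M D q φ n w hwφ r₀ h₀ hn x hx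
  have hclD := isClosedImmersion_wD M D q n w r₁ h₁ hn
  rw [← ker_stalkMap]
  have h1 := (wD D n w hn).stalkMap_surjective y
  rw [ringKrullDim_eq_of_ringEquiv (RingHom.quotientKerEquivOfSurjective h1)]
  exact (Groth.Agent.CurvesB.DimPts.ringKrullDim_stalk_le y).trans hdim

end K917.ContrLoc

end

section
open CategoryTheory CategoryTheory.Limits AlgebraicGeometry Topology TopologicalSpace IsLocalRing
open Groth.Agent.Divis.CartierBasic Groth.Agent.Divis.CartierStalk K621.ContrDefs K917.ContrLoc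

namespace K917.ContrEtale

theorem specializes_fromSpecStalk_iff {W : Scheme.{u}} {x : W} (P Q : PrimeSpectrum (W.presheaf.stalk x)) :
    W.fromSpecStalk x P ⤳ W.fromSpecStalk x Q ↔ P ≤ Q := by
  rw [PrimeSpectrum.le_iff_specializes]
  exact (W.fromSpecStalk x).isEmbedding.isInducing.specializes_iff

section

variable {X W : Scheme.{u}} {C : Type u} [CommRing C] (M : Ideal C) [hM : M.IsMaximal]
  (D : X.IdealSheafData) (q : W ⟶ Spec (CommRingCat.of C)) (φ : W ⟶ X) (n : ℕ)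
  (w : (D ^ (n * 2)).subscheme ⟶ W) (hwφ : w ≫ φ = (D ^ (n * 2)).subschemeι)
  (r₁ : (D ^ (n * 2)).subscheme ⟶ Spec (CommRingCat.of (C ⧸ M ^ 2)))
  (r₀ : (D ^ n).subscheme ⟶ Spec (CommRingCat.of (C ⧸ M)))
  (h₁ : IsPullback w r₁ q (Spec.map (CommRingCat.ofHom (Ideal.Quotient.mk (M ^ 2)))))
  (h₀ : IsPullback (Scheme.IdealSheafData.inclusion (pow_anti D (Nat.le_mul_of_pos_right n two_pos)) ≫ w) r₀ q
      (Spec.map (CommRingCat.ofHom (Ideal.Quotient.mk M))))

include hwφ h₁ h₀ in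
/-- the prime `g B` corresponds to the generic point of the fibre -/
theorem fromSpecStalk_eq [IsIntegral D.subscheme] (hn : 0 < n) (x : W)
    (hx : q x = (⟨M, hM.isPrime⟩ : PrimeSpectrum C)) (Q : PrimeSpectrum (W.presheaf.stalk x))
    (hQ : Q.asIdeal = stalkIdeal (wD D n w hn).ker x) :
    W.fromSpecStalk x Q = wD D n w hn (genericPoint D.subscheme) := by
  obtain ⟨y, hy⟩ := exists_wD M D q φ n w hwφ r₀ h₀ hn x hx
  have hclD := isClosedImmersion_wD M D q n w r₁ h₁ hn
  have hrange : Set.range (wD D n w hn) = (wD D n w hn).ker.support := by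
    rw [Scheme.Hom.support_ker]
    exact (wD D n w hn).isClosedEmbedding.isClosed_range.closure_eq.symm
  have h1 : wD D n w hn (genericPoint D.subscheme) ⤳ x := by
    rw [← hy]
    exact (genericPoint_specializes y).map (wD D n w hn).continuous
  have h2 : wD D n w hn (genericPoint D.subscheme) ∈ Set.range (W.fromSpecStalk x) := by
    rw [Scheme.range_fromSpecStalk]
    exact h1
  obtain ⟨P, hP⟩ : ∃ P : PrimeSpectrum (W.presheaf.stalk x),
    W.fromSpecStalk x P = wD D n w hn (genericPoint D.subscheme) := h2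
  have h3 : Q ≤ P := by
    have h4 : W.fromSpecStalk x P ∈ (wD D n w hn).ker.support := by
      rw [hP]
      have : wD D n w hn (genericPoint D.subscheme) ∈ Set.range (wD D n w hn) := ⟨_, rfl⟩
      rw [hrange] at this
      exact this
    rw [fromSpecStalk_mem_support_iff, ← hQ] at h4
    exact h4
  have h5 : P ≤ Q := by
    have h6 : W.fromSpecStalk x Q ∈ (wD D n w hn).ker.support := by
      rw [fromSpecStalk_mem_support_iff, hQ]
    have h7 : W.fromSpecStalk x Q ∈ Set.range (wD D n w hn) := by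
      rw [hrange]; exact h6
    obtain ⟨y', hy'⟩ := h7
    rw [← specializes_fromSpecStalk_iff, hP, ← hy']
    exact (genericPoint_specializes y').map (wD D n w hn).continuous
  rw [le_antisymm h3 h5, hP]

include hwφ h₁ h₀ in
/-- the generic point of the fibre is not minimal in `W` -/
theorem exists_lt (k : Type u) [Field k] [IsDomain C] [Algebra k C] [Algebra.FiniteType k C]
    (hdM : 2 ≤ ringKrullDim (Localization.AtPrime M)) [IsProper q] [Surjective q]
    [IsLocallyNoetherian X] [IsLocallyNoetherian W] [LocallyOfFiniteType φ]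
    (hD : BlowUp.IsEffCartierIdeal D) [IsIntegral D.subscheme] (hdim : topologicalKrullDim D.subscheme ≤ 1)
    (hn : 0 < n) (x : W) (hx : q x = (⟨M, hM.isPrime⟩ : PrimeSpectrum C)) :
    ∃ 𝔭 : Ideal (W.presheaf.stalk x), 𝔭.IsPrime ∧ 𝔭 < stalkIdeal (wD D n w hn).ker x := by
  obtain ⟨ζ, x₀, hζ, hx₀, hspec, hcl⟩ := K917.ContrSpec.exists_points M q
  have hM0 : M ≠ ⊥ := by
    intro h
    subst h
    rw [IsLocalization.AtPrime.ringKrullDim_eq_height (⊥ : Ideal C), Ideal.height_bot] at hdM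
    exact absurd hdM (by decide)
  -- at `x₀`
  obtain ⟨g, hg⟩ := exists_loc M D q φ n w hwφ r₁ r₀ h₁ h₀ hD hn x₀ hx₀
  have h2 : ζ ∈ Set.range (W.fromSpecStalk x₀) := by
    rw [Scheme.range_fromSpecStalk]
    exact hspec
  obtain ⟨P, hP⟩ : ∃ P : PrimeSpectrum (W.presheaf.stalk x₀), W.fromSpecStalk x₀ P = ζ := h2
  have hPdim : 2 ≤ ringKrullDim (W.presheaf.stalk x₀ ⧸ P.asIdeal) :=
    K917.ContrSpec.two_le_dim_stalk k M hdM q x₀ hcl P (by rw [hP, hζ])
  have hgP : (φ.stalkMap x₀).hom g ∉ P.asIdeal := by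
    intro h
    have h3 : stalkIdeal ((kerI M).comap q) x₀ ≤ P.asIdeal := by
      rw [hg.J_eq, Ideal.span_singleton_le_iff_mem]
      exact Ideal.pow_mem_of_mem _ h _ hn
    rw [← fromSpecStalk_mem_support_iff, hP] at h3
    have h4 : q ζ ∈ (kerI M).support := by
      rw [Scheme.IdealSheafData.support_comap] at h3
      exact h3
    rw [hζ] at h4
    have h5 : (⟨⊥, Ideal.isPrime_bot⟩ : PrimeSpectrum C) ∈ closure (Set.range (Spec.map
        (CommRingCat.ofHom (Ideal.Quotient.mk M)))) := by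
      rw [← Scheme.Hom.support_ker]
      exact h4
    rw [(Spec.map (CommRingCat.ofHom (Ideal.Quotient.mk M))).isClosedEmbedding.isClosed_range.closure_eq] at h5
    obtain ⟨y, hy⟩ := h5
    have h6 : M ≤ (PrimeSpectrum.comap (Ideal.Quotient.mk M) y).asIdeal := by
      intro c hc
      change Ideal.Quotient.mk M c ∈ y.asIdeal
      rw [Ideal.Quotient.eq_zero_iff_mem.2 hc]
      exact y.asIdeal.zero_mem
    have h7 : (PrimeSpectrum.comap (Ideal.Quotient.mk M) y).asIdeal = ⊥ := congrArg PrimeSpectrum.asIdeal hy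
    rw [h7] at h6
    exact hM0 (le_bot_iff.1 h6)
  have hdx₀ := dim_le M D q φ n w hwφ r₁ r₀ h₁ h₀ hdim hn x₀ hx₀
  rw [hg.ker_wD] at hdx₀
  have hlt : P.asIdeal < Ideal.span {(φ.stalkMap x₀).hom g} :=
    K917.ContrDim.lt_of_dim _ hg.prime hdx₀ P.asIdeal hPdim hgP
  -- the generic point of the fibre
  have hη₀ := fromSpecStalk_eq M D q φ n w hwφ r₁ r₀ h₁ h₀ hn x₀ hx₀ ⟨_, hg.prime⟩ hg.ker_wD.symm
  have hζη : ζ ⤳ wD D n w hn (genericPoint D.subscheme) := by
    rw [← hη₀, ← hP, specializes_fromSpecStalk_iff]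
    exact hlt.le
  have hne : ζ ≠ wD D n w hn (genericPoint D.subscheme) := by
    intro h
    rw [← hη₀, ← hP] at h
    have h8 := (W.fromSpecStalk x₀).isEmbedding.injective h
    exact hlt.ne (congrArg PrimeSpectrum.asIdeal h8)
  -- at `x`
  obtain ⟨g', hg'⟩ := exists_loc M D q φ n w hwφ r₁ r₀ h₁ h₀ hD hn x hx
  have hη := fromSpecStalk_eq M D q φ n w hwφ r₁ r₀ h₁ h₀ hn x hx ⟨_, hg'.prime⟩ hg'.ker_wD.symm
  have hηx : wD D n w hn (genericPoint D.subscheme) ⤳ x := by
    have : wD D n w hn (genericPoint D.subscheme) ∈ Set.range (W.fromSpecStalk x) := ⟨_, hη⟩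
    rw [Scheme.range_fromSpecStalk] at this
    exact this
  have h9 : ζ ∈ Set.range (W.fromSpecStalk x) := by
    rw [Scheme.range_fromSpecStalk]
    exact hζη.trans hηx
  obtain ⟨P', hP'⟩ : ∃ P' : PrimeSpectrum (W.presheaf.stalk x), W.fromSpecStalk x P' = ζ := h9
  refine ⟨P'.asIdeal, P'.isPrime, ?_⟩
  rw [hg'.ker_wD]
  refine lt_of_le_of_ne ?_ ?_
  · have : P' ≤ (⟨_, hg'.prime⟩ : PrimeSpectrum (W.presheaf.stalk x)) := by
      rw [← specializes_fromSpecStalk_iff, hP', hη]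
      exact hζη
    exact this
  · intro h
    apply hne
    rw [← hη, ← hP']
    congr 1
    exact PrimeSpectrum.ext h

end

theorem etale_near_fibre {k : Type u} [Field k] {X : Scheme.{u}} (f : X ⟶ Spec (CommRingCat.of k))
    [LocallyOfFiniteType f] [QuasiCompact f] [IsSeparated f] (D : X.IdealSheafData)
    (hD : BlowUp.IsEffCartierIdeal D) [IsIntegral D.subscheme] (hdim : topologicalKrullDim D.subscheme = 1)
    {C : Type u} [CommRing C] [IsDomain C] [Algebra k C] [Algebra.FiniteType k C] (M : Ideal C) [M.IsMaximal]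
    (hM : 2 ≤ ringKrullDim (Localization.AtPrime M))
    {W : Scheme.{u}} (q : W ⟶ Spec (CommRingCat.of C)) [IsProper q] [Surjective q] (φ : W ⟶ X)
    (hφ : φ ≫ f = q ≫ Spec.map (CommRingCat.ofHom (algebraMap k C))) (n : ℕ) (hn : 0 < n)
    (w : (D ^ (n * 2)).subscheme ⟶ W) (hwφ : w ≫ φ = (D ^ (n * 2)).subschemeι)
    (r₁ : (D ^ (n * 2)).subscheme ⟶ Spec (CommRingCat.of (C ⧸ M ^ 2)))
    (r₀ : (D ^ n).subscheme ⟶ Spec (CommRingCat.of (C ⧸ M)))
    (h₁ : IsPullback w r₁ q (Spec.map (CommRingCat.ofHom (Ideal.Quotient.mk (M ^ 2)))))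
    (h₀ : IsPullback (Scheme.IdealSheafData.inclusion (pow_anti D (Nat.le_mul_of_pos_right n two_pos)) ≫ w) r₀ q
      (Spec.map (CommRingCat.ofHom (Ideal.Quotient.mk M)))) :
    ∃ O : W.Opens, (∀ x : W, q x = ⟨M, inferInstance⟩ → x ∈ O) ∧ Etale (O.ι ≫ φ) ∧
      (D.comap (O.ι ≫ φ)) ^ n = (Spec.map (CommRingCat.ofHom (Ideal.Quotient.mk M))).ker.comap (O.ι ≫ q) := by
  have hfk : LocallyOfFiniteType (Spec.map (CommRingCat.ofHom (algebraMap k C))) :=
    (HasRingHomProperty.Spec_iff (P := @LocallyOfFiniteType)).2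
      (RingHom.finiteType_algebraMap.2 inferInstance)
  have hft : LocallyOfFiniteType (φ ≫ f) := by rw [hφ]; infer_instance
  have hφft : LocallyOfFiniteType φ := locallyOfFiniteType_of_comp φ f
  have hXn : IsLocallyNoetherian X := LocallyOfFiniteType.isLocallyNoetherian f
  have hWn : IsLocallyNoetherian W := LocallyOfFiniteType.isLocallyNoetherian (φ ≫ f)
  have hφfp : LocallyOfFinitePresentation φ :=
    Groth.Agent.FlatB.FppfDom.locallyOfFinitePresentation_of_isLocallyNoetherian φ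
  have hpt : ∀ x : W, q x = (⟨M, inferInstance⟩ : PrimeSpectrum C) →
      ∃ U : W.Opens, x ∈ U ∧ Etale (U.ι ≫ φ) ∧
        ∀ y ∈ U, stalkIdeal ((D.comap φ) ^ n) y = stalkIdeal ((kerI M).comap q) y := by
    intro x hx
    obtain ⟨g, hg⟩ := exists_loc M D q φ n w hwφ r₁ r₀ h₁ h₀ hD hn x hx
    have hlt := exists_lt M D q φ n w hwφ r₁ r₀ h₁ h₀ k hM hD hdim.le hn x hx
    rw [hg.ker_wD] at hlt
    obtain ⟨hfl, hun⟩ := hg.et hlt
    obtain ⟨U, hxU, hU⟩ :=
      (Groth.Agent.UnramA.FlatUnramAt.etale_nhd_iff_flat_and_formallyUnramified φ x).2 ⟨hfl, hun⟩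
    obtain ⟨V, hxV, hV⟩ := K917.ContrPt.exists_nhd_eq ((D.comap φ) ^ n) ((kerI M).comap q) x (by
      rw [stalkIdeal_pow, stalkIdeal_comap, hg.gen, hg.J_eq, Ideal.map_span, Set.image_singleton,
        Ideal.span_singleton_pow])
    refine ⟨U ⊓ V, ⟨hxU, hxV⟩, ?_, fun y hy => hV y hy.2⟩
    rw [← W.homOfLE_ι (inf_le_left : U ⊓ V ≤ U), Category.assoc]
    infer_instance
  choose! U hxU hU hUV using hpt
  let O : W.Opens := ⨆ x : {x : W // q x = (⟨M, inferInstance⟩ : PrimeSpectrum C)}, U x.1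
  refine ⟨O, fun x hx => TopologicalSpace.Opens.mem_iSup.2 ⟨⟨x, hx⟩, hxU x hx⟩, ?_, ?_⟩
  · refine IsZariskiLocalAtSource.of_iSup_eq_top (P := @Etale)
      (fun x : {x : W // q x = (⟨M, inferInstance⟩ : PrimeSpectrum C)} => O.ι ⁻¹ᵁ U x.1) ?_ ?_
    · rw [eq_top_iff]
      intro y _
      obtain ⟨x, hx⟩ := TopologicalSpace.Opens.mem_iSup.1 y.2
      exact TopologicalSpace.Opens.mem_iSup.2 ⟨x, hx⟩
    · intro x
      rw [← Category.assoc, ← morphismRestrict_ι, Category.assoc]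
      have := hU x.1 x.2
      infer_instance
  · apply ext_stalkIdeal
    intro y
    have hy : stalkIdeal ((D.comap φ) ^ n) (O.ι y) = stalkIdeal ((kerI M).comap q) (O.ι y) := by
      obtain ⟨x, hx⟩ := TopologicalSpace.Opens.mem_iSup.1 y.2
      exact hUV x.1 x.2 _ hx
    rw [stalkIdeal_pow, Scheme.IdealSheafData.comap_comp, stalkIdeal_comap _ O.ι, ← Ideal.map_pow,
      ← stalkIdeal_pow, Scheme.IdealSheafData.comap_comp, stalkIdeal_comap _ O.ι, hy]

end K917.ContrEtale

end
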